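import Cfsg.Agent.Lib.Sig.Tools
import Cfsg.Agent.Lib.FGS.Ward
import Cfsg.Agent.Lib.Fact.Basic
import Cfsg.Agent.S3073
import Cfsg.Agent.S0006

/-! A noncyclic group of order `r ^ 2` acting coprimely with abelian centralizers: solvability. -/

set_option autoImplicit false
set_option linter.unusedSectionVars false
set_option linter.unusedVariables false

namespace H43

open Cfsg H69 H45 Subgroup
open scoped commutatorElement

universe u
variable {Γ : Type u} [Group Γ] [Finite Γ]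

/-- A minimal counterexample. -/
structure Mt (r : ℕ) (G A : Subgroup Γ) : Prop where
  elem : IsElementaryAbelian r A
  card : Nat.card A = r ^ 2
  norm : A ≤ 𝐍(G)
  cop : ¬ r ∣ Nat.card G
  ab : ∀ a ∈ A, a ≠ 1 → IsMulCommutative ↥(G ⊓ 𝐂[a])
  nsol : ¬ Group.IsSolvable G
  sol : ∀ K, K < G → A ≤ 𝐍(K) → Group.IsSolvable K
  simp : ∀ K ≤ G, K ≠ ⊥ → A ≤ 𝐍(K) → G ≤ 𝐍(K) → K = G

/-- Invariant subgroups. -/
def Iv (G A K : Subgroup Γ) : Prop := K ≤ G ∧ A ≤ 𝐍(K)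

/-- Invariant `π`-subgroups. -/
def IP (G A : Subgroup Γ) (π : Set ℕ) (K : Subgroup Γ) : Prop := Iv G A K ∧ IsPi π K

/-- The invariant Sylow subgroup. -/
structure ISyl (G A : Subgroup Γ) (p : ℕ) (P : Subgroup Γ) : Prop where
  syl : Syl p P G
  norm : A ≤ 𝐍(P)
  max : ∀ D, Iv G A D → IsPGroup p D → D ≤ P

variable {r : ℕ} [hr : Fact r.Prime] {G A : Subgroup Γ}

theorem Iv.inf {K L : Subgroup Γ} (h : Iv G A K) (hL : A ≤ 𝐍(L)) : Iv G A (K ⊓ L) :=
  ⟨inf_le_left.trans h.1, H2.le_normalizer_inf h.2 hL⟩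

theorem Iv.sup {K L : Subgroup Γ} (h : Iv G A K) (hL : Iv G A L) : Iv G A (K ⊔ L) :=
  ⟨sup_le h.1 hL.1, H2.le_normalizer_sup h.2 hL.2⟩

theorem Iv.inf_cent {K L : Subgroup Γ} (h : Iv G A K) (hL : A ≤ 𝐍(L)) : Iv G A (K ⊓ 𝐂(L)) :=
  h.inf (H2.le_normalizer_centralizer hL)

theorem Iv.inf_norm {K L : Subgroup Γ} (h : Iv G A K) (hL : A ≤ 𝐍(L)) : Iv G A (K ⊓ 𝐍(L)) :=
  h.inf (H2.normalizer_le_normalizer_normalizer L hL)

theorem Iv.pcore {K : Subgroup Γ} (h : Iv G A K) (π : Set ℕ) : Iv G A (O[π] K) :=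
  ⟨(pcore_sub π K).trans h.1, le_norm_pcore π h.2⟩

theorem Iv.zc {K : Subgroup Γ} (h : Iv G A K) : Iv G A (Zc K) := h.inf_cent h.2

theorem ISyl.iv {p : ℕ} {P : Subgroup Γ} (h : ISyl G A p P) : Iv G A P := ⟨h.syl.le, h.norm⟩

namespace Mt

variable (m : Mt r G A)
include m

theorem iv_self : Iv G A G := ⟨le_rfl, m.norm⟩

theorem not_dvd {K : Subgroup Γ} (h : K ≤ G) : ¬ r ∣ Nat.card K := not_dvd_of_le h m.cop

theorem coprime {K : Subgroup Γ} (h : K ≤ G) : (Nat.card A).Coprime (Nat.card K) :=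
  ea_coprime m.elem (m.not_dvd h)

theorem iv_cent1 {K : Subgroup Γ} (h : Iv G A K) {a : Γ} (ha : a ∈ A) : Iv G A (K ⊓ 𝐂[a]) :=
  h.inf (ea_le_normalizer_centralizer_singleton m.elem ha)

theorem gen {K M : Subgroup Γ} (h : Iv G A K) (hM : ∀ a ∈ A, a ≠ 1 → K ⊓ 𝐂[a] ≤ M) : K ≤ M :=
  le_of_forall_elt m.elem m.card.ge h.2 (m.not_dvd h.1) hM

theorem exists_cent1 {K : Subgroup Γ} (h : Iv G A K) (h1 : K ≠ ⊥) :
    ∃ a ∈ A, a ≠ 1 ∧ K ⊓ 𝐂[a] ≠ ⊥ := by
  by_contra hc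
  push Not at hc
  exact h1 (le_bot_iff.1 (m.gen h fun a ha h1 => (hc a ha h1).le))

theorem gen2 {K M : Subgroup Γ} (h : Iv G A K) {a : Γ} (ha : a ∈ A) (h1 : K ⊓ 𝐂[a] ≤ M)
    (hM : ∀ b ∈ A, b ∉ zpowers a → K ⊓ 𝐂[b] ≤ M) : K ≤ M := by
  refine m.gen h fun b hb hb1 => ?_
  by_cases hba : b ∈ zpowers a
  · refine le_trans (inf_le_inf_left _ fun x hx => ?_) h1
    exact mem_cent1_comm.1 (H76.mem_of_pow_mem_of_ne_one (m.elem.2 a ha) hba hb1
      (mem_cent1_comm.1 hx))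
  · exact hM b hb hba

theorem cent2 {a : Γ} (ha : a ∈ A) (h1 : a ≠ 1) {X Y : Subgroup Γ} (hX : X ≤ G) (hY : Y ≤ G) :
    X ⊓ 𝐂[a] ≤ 𝐂(Y ⊓ 𝐂[a]) :=
  sub_abelian_cent2 (m.ab a ha h1) (inf_le_inf_right _ hX) (inf_le_inf_right _ hY)

theorem norm_lt {K : Subgroup Γ} (h : Iv G A K) (h1 : K ≠ ⊥) (hs : Group.IsSolvable K) :
    G ⊓ 𝐍(K) < G := by
  refine lt_of_le_of_ne inf_le_left fun e => m.nsol ?_
  rwa [← m.simp K h.1 h1 h.2 (e.ge.trans inf_le_right)]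

theorem fpf : G ⊓ 𝐂(A) = ⊥ := by
  by_contra h1
  have h2 : G ≤ 𝐂(G ⊓ 𝐂(A)) := m.gen m.iv_self fun a ha h1 =>
    sub_abelian_cent2 (m.ab a ha h1) le_rfl (inf_le_inf_left _ (cent_le_cent1 ha))
  have h3 := m.simp _ inf_le_left h1 (m.iv_self.inf_cent le_normalizer).2 (cents_norm h2)
  rw [h3] at h2
  exact m.nsol (solvable_of_abelian (abelian_iff_le_centralizer.2 h2))

theorem ind_symm {a b : Γ} (ha : a ∈ A) (h1 : a ≠ 1) (hb : b ∈ A) (h : b ∉ zpowers a) :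
    a ∉ zpowers b := fun h' =>
  h (H76.mem_of_pow_mem_of_ne_one (m.elem.2 b hb) h' h1 (mem_zpowers a))

omit m in
theorem ne_one_of_ind {a b : Γ} (h : b ∉ zpowers a) : b ≠ 1 := by
  rintro rfl; exact h (one_mem _)

theorem cent_ind {a b : Γ} (ha : a ∈ A) (h1 : a ≠ 1) (hb : b ∈ A) (h : b ∉ zpowers a)
    {E : Subgroup Γ} (hE : E ≤ G ⊓ 𝐂[b]) : E ⊓ 𝐂[a] = ⊥ := by
  rw [← le_bot_iff, ← m.fpf]
  intro x hx
  refine ⟨(hE hx.1).1, ?_⟩
  have := H76.le_of_mem_of_card_eq_sq m.card ha h1 (m.elem.2 a ha) hb h (M := 𝐂[x])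
    (mem_cent1_comm.1 hx.2) (mem_cent1_comm.1 (hE hx.1).2)
  exact le_cent1_iff.1 this

/-- The Frobenius action lemma. -/
theorem frob {a b : Γ} (ha : a ∈ A) (h1 : a ≠ 1) (hb : b ∈ A) (h : b ∉ zpowers a)
    {E U : Subgroup Γ} (hE : Iv G A E) (hEb : E ≤ 𝐂[b]) (hU : Iv G A U)
    (hs : Group.IsSolvable U) (hn : E ≤ 𝐍(U)) (hc : (Nat.card E).Coprime (Nat.card U))
    (hf : U ⊓ 𝐂[a] ≤ 𝐂(E)) : E ≤ 𝐂(U) := by
  have ho := ea_orderOf m.elem ha h1
  have h2 := comm_le_of_fpf (L := 𝐂(E)) (ho ▸ hr.out) (hE.2 ha)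
    (m.cent_ind ha h1 hb h (le_inf hE.1 hEb)) hs hn (hU.2 ha) hc
    (ho ▸ (Nat.Prime.coprime_iff_not_dvd hr.out).2 (m.not_dvd hU.1))
    (H2.le_normalizer_centralizer le_normalizer) (H2.le_normalizer_centralizer hE.2 ha) hf
  exact centsC.1 (H2.le_centralizer_of_commutator_le_centralizer hn hc h2)

theorem exists_isyl (p : ℕ) [Fact p.Prime] : ∃ P, ISyl G A p P := by
  obtain ⟨P, hP, hA⟩ := H2.exists_invariant_sylowIn m.norm (m.coprime le_rfl)
    (Or.inl (ea_solvable m.elem)) p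
  refine ⟨P, syl_of_sylowIn hP, hA, fun D hD hp => ?_⟩
  obtain ⟨c, hc, e⟩ := H2.exists_centralizer_cj_le_of_sylowIn m.norm (m.coprime le_rfl)
    (Or.inl (ea_solvable m.elem)) hP hA hD.1 hp hD.2
  rw [m.fpf, mem_bot] at hc
  subst hc
  rwa [H68.cj_one] at e

theorem syl_inf {p : ℕ} [Fact p.Prime] {P H : Subgroup Γ} (hP : ISyl G A p P) (hH : Iv G A H) :
    Syl p (P ⊓ H) H := by
  obtain ⟨T, hT, hA⟩ := H2.exists_invariant_sylowIn hH.2 (m.coprime hH.1)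
    (Or.inl (ea_solvable m.elem)) p
  have h1 := syl_of_sylowIn hT
  have h2 : T ≤ P := hP.max T ⟨h1.le.trans hH.1, hA⟩ h1.isP
  rw [h1.max (P ⊓ H) (le_inf h2 h1.le) inf_le_right (hP.syl.isP.to_inf_left)]
  exact h1

theorem join {π : Set ℕ} {L H K : Subgroup Γ} (hL : Iv G A L) (hs : Group.IsSolvable L)
    (hH : IP G A π H) (hK : IP G A π K) (h1 : H ≤ L) (h2 : K ≤ L) : IP G A π (H ⊔ K) := by
  have hc := (m.coprime hL.1).symm
  obtain ⟨X, hX, hXA, e⟩ := coprime_Hall_subset hL.2 hc hs h1 hH.2 hH.1.2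
  obtain ⟨Y, hY, hYA, e'⟩ := coprime_Hall_subset hL.2 hc hs h2 hK.2 hK.1.2
  obtain ⟨g, hg, e''⟩ := coprime_Hall_trans hL.2 hc hs hX hXA hY hYA
  have : g = 1 := by
    rw [← mem_bot, ← m.fpf]
    exact ⟨hL.1 hg.1, hg.2⟩
  subst this
  rw [cj_eq_of_mem_normalizer (one_mem _)] at e''
  have : X = Y := e''
  subst this
  exact ⟨hH.1.sup hK.1, hX.isPi.of_le (sup_le e e')⟩

theorem join_norm {π : Set ℕ} {V H K : Subgroup Γ} (hV : Iv G A V) (h0 : V ≠ ⊥)
    (hs : Group.IsSolvable V) (hH : IP G A π H) (hK : IP G A π K) (h1 : H ≤ 𝐍(V))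
    (h2 : K ≤ 𝐍(V)) : IP G A π (H ⊔ K) :=
  have h3 := m.iv_self.inf_norm hV.2
  m.join h3 (m.sol _ (m.norm_lt hV h0 hs) h3.2) hH hK (le_inf hH.1.1 h1) (le_inf hK.1.1 h2)

theorem le_max {π : Set ℕ} {V H K : Subgroup Γ} (hV : Iv G A V) (h0 : V ≠ ⊥)
    (hs : Group.IsSolvable V) (hH : Maximal (IP G A π) H) (hK : IP G A π K) (h1 : H ≤ 𝐍(V))
    (h2 : K ≤ 𝐍(V)) : K ≤ H :=
  le_sup_right.trans (hH.2 (m.join_norm hV h0 hs hH.1 hK h1 h2) le_sup_left)

theorem no_compl {p : ℕ} [hp : Fact p.Prime] {P : Subgroup Γ} (hP : Syl p P G) (h1 : P ≠ ⊥)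
    (h : SDProd (O[{p}ᶜ] G) P G) : False := by
  by_cases h2 : O[{p}ᶜ] G = ⊥
  · have := h.sup_eq
    rw [h2, bot_sup_eq] at this
    exact m.nsol (this ▸ nilpotent_sol (pgroup_nil hP.isP))
  · have h3 := m.simp _ (pcore_sub _ _) h2 (le_norm_pcore _ m.norm) (pcore_norm _ _)
    have := h.inf_eq
    rw [h3, inf_of_le_right hP.le] at this
    exact h1 this

theorem nonsmall {p : ℕ} [hp : Fact p.Prime] {P : Subgroup Γ} (hP : ISyl G A p P) (h1 : P ≠ ⊥)
    {a : Γ} (ha : a ∈ A) (ha1 : a ≠ 1) (h : P ≤ 𝐂[a]) : False := by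
  refine m.no_compl hP.syl h1 ((normalPCompl_Burnside hP.syl ?_).sdprod hP.syl)
  have h2 := m.iv_self.inf_norm hP.norm
  have hz : zpowers a ≤ A := zpowers_le.2 ha
  rw [← H2.commutator_sup_centralizer (hz.trans h2.2)
    (H2.coprime_of_le_left (m.coprime h2.1) hz) (Or.inl (H2.isSolvable_zpowers a))]
  refine sup_le (H2.commutator_le_centralizer_of_normalizes inf_le_right
    (zpowers_le.2 (le_cent1_iff.1 h))) ?_
  rw [centralizer_zpowers]
  have := m.cent2 ha ha1 h2.1 hP.syl.le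
  rwa [inf_of_le_left h] at this

theorem big {p : ℕ} [hp : Fact p.Prime] (h2 : p ≠ 2) {P : Subgroup Γ} (hP : ISyl G A p P)
    (h1 : P ≠ ⊥) : ∃ a ∈ A, a ≠ 1 ∧ ∀ b ∈ A, b ∉ zpowers a → P ⊓ 𝐂[b] ≠ ⊥ := by
  by_contra hc
  push Not at hc
  obtain ⟨K, hK, -, h3⟩ := Cfsg.Agent.S3073.result p h2 P hP.syl.isP
  obtain ⟨T, hT⟩ := hP.syl.exists_sylow_subgroupOf
  let e : T ≃* P := (MulEquiv.subgroupCongr hT).trans (subgroupOfEquivOfLe hP.syl.le)
  have hKP : CharIn (K.map P.subtype) P := charIn_map_subtype hK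
  have hKi : Iv G A (K.map P.subtype) := ⟨hKP.le.trans hP.syl.le, hKP.norm_trans hP.norm⟩
  have hKe : (K.comap (e : T →* P)).map (T : Subgroup G).subtype =
      (K.map P.subtype).subgroupOf G := by
    ext x
    constructor
    · rintro ⟨y, hy, rfl⟩
      exact ⟨e y, hy, rfl⟩
    · rintro ⟨y, hy, e'⟩
      refine ⟨e.symm y, by simpa using hy, Subtype.ext ?_⟩
      exact e'
  refine m.no_compl hP.syl h1 ((normalPCompl_iff.2 ((h3 G T e).2 ?_)).sdprod hP.syl)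
  rw [hKe]
  generalize K.map P.subtype = V at *
  have hVp : IsPGroup p V := hP.syl.isP.to_le hKP.le
  intro g hg hgp
  have hg' : (g : Γ) ∈ 𝐍(V) := by
    rw [← subgroupOf_normalizer_eq hKi.1] at hg
    exact hg
  suffices h : (g : Γ) ∈ 𝐂(V) by
    intro y hy
    exact Subtype.ext (h y hy)
  by_cases h0 : V = ⊥
  · rw [h0]; intro y hy; rw [mem_bot.1 hy, one_mul, mul_one]
  have hN := m.iv_self.inf_norm hKi.2
  have hs := m.sol _ (m.norm_lt hKi h0 (nilpotent_sol (pgroup_nil hVp))) hN.2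
  obtain ⟨E, hE, hEA⟩ := coprime_Hall_exists ({p}ᶜ) hN.2 (m.coprime hN.1).symm hs
  have hEi : Iv G A E := ⟨hE.le.trans hN.1, hEA⟩
  have h4 : E ≤ 𝐂(V) := m.gen hEi fun a ha ha1 => by
    obtain ⟨b, hb, hba, h5⟩ := hc a ha ha1
    refine m.frob hb (ne_one_of_ind hba) ha (m.ind_symm ha ha1 hb hba) (m.iv_cent1 hEi ha)
      inf_le_right hKi (nilpotent_sol (pgroup_nil hVp))
      (inf_le_left.trans (hE.le.trans inf_le_right)) (cop_of_p' (hE.isPi.inf_left _) hVp) ?_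
    exact (inf_le_inf_right _ hKP.le).trans (h5.le.trans bot_le)
  obtain ⟨x, hx, h5⟩ := Hall_le_cj hs hE (zpowers_le.2 ⟨g.2, hg'⟩)
    (isPi_zpowers_iff.2 (p_elt_compl_singleton_iff.2 (by rwa [orderOf_coe])))
  have h6 := (h5.trans (cj_mono x h4)) (mem_zpowers _)
  rwa [cj_centralizer, cj_eq_of_mem_normalizer hx.2] at h6

theorem ward {H : Subgroup Γ} (hH : Iv G A H) (hs : Group.IsSolvable H) :
    ∃ k, H.lowerCentralSeries k ≤ Fit H := by
  have h1 : H ⊴ H ⊔ A := normalIn_sup_left hH.2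
  have := h1.normal_subgroupOf
  have : Group.IsSolvable ↥(H ⊔ A) := by
    rw [sup_comm]
    exact H1.isSolvable_sup_of_le_normalizer (ea_solvable m.elem) hs hH.2
  obtain ⟨k, hk⟩ := H76.lowerCentralSeries_le_fitting_ward (G := ↥(H ⊔ A)) (p := r)
    (N := H.subgroupOf _) (A := A.subgroupOf _)
    (by
      rw [H2.card_subgroupOf_of_le le_sup_left]
      exact ((Nat.Prime.coprime_iff_not_dvd hr.out).2 (m.not_dvd hH.1)).symm)
    (fun x _ => by
      obtain ⟨h, hh, a, ha, e⟩ := (mulEq_of_norm hH.2).exists_mul x.2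
      refine ⟨1, ?_⟩
      rw [← QuotientGroup.eq_one_iff, pow_one, QuotientGroup.mk_pow]
      have h2 : x = ⟨h, le_sup_left (b := A) hh⟩ * ⟨a, le_sup_right (a := H) ha⟩ := Subtype.ext e
      rw [h2, QuotientGroup.mk_mul, (QuotientGroup.eq_one_iff _).2 (by exact hh), one_mul,
        ← QuotientGroup.mk_pow, show (⟨a, le_sup_right (a := H) ha⟩ : ↥(H ⊔ A)) ^ r = 1 from
          Subtype.ext (m.elem.2 a ha), QuotientGroup.mk_one])
    (ea_mk (fun a ha b hb => Subtype.ext (ea_comm m.elem ha hb))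
      fun a ha => Subtype.ext (m.elem.2 a ha))
    (by rw [H2.card_subgroupOf_of_le le_sup_right, m.card])
    (by
      rw [← le_bot_iff]
      intro x hx
      have : (x : Γ) ∈ G ⊓ 𝐂(A) := ⟨hH.1 hx.1, fun a ha =>
        congrArg Subtype.val (hx.2 ⟨a, le_sup_right (a := H) ha⟩ ha)⟩
      rw [m.fpf] at this
      exact Subtype.ext this)
  refine ⟨k, ?_⟩
  rw [← Fitting_setI_normal h1]
  refine le_inf (lowerCentralSeries_le_self H k) ?_
  have h3 := map_mono (f := (H ⊔ A).subtype) hk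
  rwa [Subgroup.map_lowerCentralSeries, map_subgroupOf_eq_of_le le_sup_left] at h3

end Mt

/-- Two invariant Sylow subgroups not generating a group for the two primes. -/
structure Pr (r : ℕ) (G A : Subgroup Γ) (π : Set ℕ) (p q : ℕ) (P Q : Subgroup Γ) : Prop where
  m : Mt r G A
  ne : p ≠ q
  mem : ∀ s, s ∈ π ↔ s = p ∨ s = q
  hP : ISyl G A p P
  hQ : ISyl G A q Q
  hn : ¬ IsPi π (P ⊔ Q)

namespace Pr

variable {π : Set ℕ} {p q : ℕ} [hp : Fact p.Prime] [hq : Fact q.Prime] {P Q : Subgroup Γ}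
  (c : Pr r G A π p q P Q)
include c

theorem symm : Pr r G A π q p Q P :=
  ⟨c.m, c.ne.symm, fun s => (c.mem s).trans or_comm, c.hQ, c.hP, by rw [sup_comm]; exact c.hn⟩

theorem ip {D : Subgroup Γ} (h : Iv G A D) (hD : IsPGroup p D) : IP G A π D :=
  ⟨h, isPi_of_isPGroup hp.out hD ((c.mem p).2 (Or.inl rfl))⟩

theorem ipP : IP G A π P := c.ip c.hP.iv c.hP.syl.isP

theorem not_le {H : Subgroup Γ} (hH : IP G A π H) (h1 : P ≤ H) (h2 : Q ≤ H) : False :=
  c.hn (hH.2.of_le (sup_le h1 h2))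

theorem ne_bot : P ≠ ⊥ := fun h => c.not_le c.symm.ipP (h ▸ bot_le) le_rfl

theorem sol {H : Subgroup Γ} (hH : IP G A π H) : Group.IsSolvable H :=
  c.m.sol H (lt_of_le_of_ne hH.1.1 fun e =>
    c.not_le hH (e ▸ c.hP.syl.le) (e ▸ c.hQ.syl.le)) hH.1.2

theorem core_eq {H : Subgroup Γ} (hH : IP G A π H) : O[{p}ᶜ] H = O[{q}] H :=
  eq_in_pcore fun s hs hd => by
    rcases (c.mem s).1 (hH.2.mem hs hd) with rfl | rfl
    · simp [c.ne]
    · simp [c.ne.symm]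

theorem cent (H : Subgroup Γ) : O[{p}] H ≤ 𝐂(O[{q}] H) :=
  cent_pcore (Set.disjoint_singleton.2 c.ne) H

theorem ip_core {H : Subgroup Γ} (hH : IP G A π H) : IP G A π (O[{p}] H) :=
  c.ip (hH.1.pcore _) (pcore_isPGroup p H)

omit c in
theorem psol {D : Subgroup Γ} (hD : IsPGroup p D) : Group.IsSolvable D :=
  nilpotent_sol (pgroup_nil hD)

theorem core_le {H L V : Subgroup Γ} (hH : Maximal (IP G A π) H) (hL : IP G A π L)
    (hV : Iv G A V) (h0 : V ≠ ⊥) (hVp : IsPGroup p V) (h1 : H ≤ 𝐍(V)) (h2 : V ≤ L) :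
    O[{q}] H ⊓ L ≤ O[{q}] L := by
  have h3 : L ⊓ 𝐍(V) ≤ H := c.m.le_max hV h0 (psol hVp) hH
    ⟨hL.1.inf_norm hV.2, hL.2.inf_left _⟩ h1 inf_le_right
  rw [← c.core_eq hL]
  refine le_p'core_of_norm_norm hVp h2 (c.sol hL) ?_
    (le_inf inf_le_right (inf_le_left.trans ((pcore_sub _ _).trans h1)))
    (H2.le_normalizer_inf (h3.trans (pcore_norm _ _)) (le_normalizer_of_le inf_le_left))
  rw [← c.core_eq hH.1]
  exact (pcore_pgroup _ _).inf_left _

theorem uniq {H L V U : Subgroup Γ} (hH : Maximal (IP G A π) H) (hL : Maximal (IP G A π) L)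
    (hV : Iv G A V) (hV0 : V ≠ ⊥) (hV1 : V ≤ O[{p}] H) (hV2 : H ≤ 𝐍(V)) (hV3 : V ≤ L)
    (hU : Iv G A U) (hU0 : U ≠ ⊥) (hU1 : U ≤ O[{q}] H) (hU2 : H ≤ 𝐍(U)) (hU3 : U ≤ L) :
    L = H := by
  have hVp := (pcore_isPGroup p H).to_le hV1
  have hUq := (pcore_isPGroup q H).to_le hU1
  have a1 := c.core_le hH hL.1 hV hV0 hVp hV2 hV3
  have a2 := c.symm.core_le hH hL.1 hU hU0 hUq hU2 hU3
  have b1 : U ≤ O[{q}] L := (le_inf hU1 hU3).trans a1
  have b2 : V ≤ O[{p}] L := (le_inf hV1 hV3).trans a2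
  have c1 : O[{p}] L ≤ H := c.m.le_max hU hU0 (psol hUq) hH (c.ip_core hL.1) hU2
    (cents_norm (centsS (c.cent L) b1))
  have c2 : O[{q}] L ≤ H := c.m.le_max hV hV0 (psol hVp) hH (c.symm.ip_core hL.1) hV2
    (cents_norm (centsS (c.symm.cent L) b2))
  have n1 : O[{p}] L ≠ ⊥ := fun h => hV0 (le_bot_iff.1 (h ▸ b2))
  have n2 : O[{q}] L ≠ ⊥ := fun h => hU0 (le_bot_iff.1 (h ▸ b1))
  have d1 : O[{q}] L ≤ O[{q}] H := (le_inf le_rfl c2).trans (c.core_le hL hH.1 (hL.1.1.pcore _) n1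
    (pcore_isPGroup p L) (pcore_norm _ _) c1)
  have d2 : O[{p}] L ≤ O[{p}] H := (le_inf le_rfl c1).trans (c.symm.core_le hL hH.1
    (hL.1.1.pcore _) n2 (pcore_isPGroup q L) (pcore_norm _ _) c2)
  have e1 : O[{p}] H ≤ L := c.m.le_max (hL.1.1.pcore _) n2 (psol (pcore_isPGroup q L)) hL
    (c.ip_core hH.1) (pcore_norm _ _) (cents_norm (centsS (c.cent H) d1))
  have e2 : O[{p}] H = O[{p}] L := le_antisymm ((le_inf le_rfl e1).trans a2) d2
  have e3 : L ≤ H := c.m.le_max (hL.1.1.pcore _) n1 (psol (pcore_isPGroup p L)) hH hL.1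
    (e2 ▸ pcore_norm _ _) (pcore_norm _ _)
  exact le_antisymm e3 (hL.2 hH.1 e3)

theorem le_of_core_eq_bot {H : Subgroup Γ} (hH : Maximal (IP G A π) H) (h : O[{q}] H = ⊥) :
    P ≤ H ∧ H ≤ 𝐍(P) := by
  have hs := c.sol hH.1
  have h1 := c.m.syl_inf c.hP hH.1.1
  obtain ⟨k, hk⟩ := c.m.ward hH.1.1 hs
  have h2 : Fit H ≤ P ⊓ H := by
    rw [Fitting_eq_pcore (p := p) (by rw [c.core_eq hH.1, h])]
    exact pcore_sub_Syl h1
  have h3 : ∀ j, SubnormalIn (P ⊓ H ⊔ H.lowerCentralSeries j) H := by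
    intro j
    induction j with
    | zero =>
      rw [Subgroup.lowerCentralSeries_zero, sup_of_le_right inf_le_right]
      exact SubnormalIn.refl H
    | succ j ih =>
      refine SubnormalIn.trans (NormalIn.subnormalIn ⟨sup_le_sup_left
        (Subgroup.lowerCentralSeries_antitone H (Nat.le_succ j)) _, sup_le ?_ ?_⟩) ih
      · exact H2.le_normalizer_sup le_normalizer
          (inf_le_right.trans (Subgroup.self_le_normalizer_lowerCentralSeries H _))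
      · rw [le_normalizer_iff_commutator_le_right]
        exact (commutator_mono le_rfl (sup_le inf_le_right
          (lowerCentralSeries_le_self H _))).trans le_sup_right
  have h4 := h3 k
  rw [sup_of_le_left (hk.trans h2)] at h4
  have h5 : H ≤ 𝐍(P ⊓ H) := by
    rw [le_antisymm (pcore_max_subnormal (isPi_p h1.isP) h4) (pcore_sub_Syl h1)]
    exact pcore_norm _ _
  have h6 : P ⊓ H ≠ ⊥ := fun e => by
    have : H = ⊥ := (trivg_Fitting hs).1 (le_bot_iff.1 (e ▸ h2))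
    exact c.ne_bot (le_bot_iff.1 (this ▸ hH.2 c.ipP (this ▸ bot_le)))
  have hi := c.hP.iv.inf hH.1.1.2
  have h7 : P ⊓ 𝐍(P ⊓ H) ≤ H := c.m.le_max hi h6 (psol h1.isP) hH
    (c.ip (c.hP.iv.inf_norm hi.2) c.hP.syl.isP.to_inf_left) h5 inf_le_right
  have h8 := nilpotent_sub_norm (pgroup_nil c.hP.syl.isP) inf_le_left (le_inf inf_le_left h7)
  exact ⟨h8.ge.trans inf_le_right, h8 ▸ h5⟩

theorem le_of_cores {H : Subgroup Γ} (hH : Maximal (IP G A π) H) (hV0 : O[{p}] H ≠ ⊥)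
    (h0 : O[{q}] H ≠ ⊥) : P ≤ H := by
  by_contra hPH
  have m := c.m
  have hV := hH.1.1.pcore {p}
  have hVp := pcore_isPGroup p H
  have hVP : O[{p}] H ≤ P := c.hP.max _ hV hVp
  have hU := (hH.1.1.pcore {q}).zc
  have hUq : IsPGroup q (Zc (O[{q}] H)) := (pcore_isPGroup q H).to_inf_left
  have hU0 := center_nil_ne_bot (pgroup_nil (pcore_isPGroup q H)) h0
  have hHU : H ≤ 𝐍(Zc (O[{q}] H)) := (center_charIn _).norm_trans (pcore_norm _ _)
  have hUO := center_le (O[{q}] H)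
  have hVU : O[{p}] H ≤ 𝐂(Zc (O[{q}] H)) := centsS (c.cent H) hUO
  have hUU := abelian_iff_le_centralizer.1 (center_abelian (O[{q}] H))
  generalize Zc (O[{q}] H) = U at *
  have hZ := c.hP.iv.zc
  have hZp : IsPGroup p (Zc P) := c.hP.syl.isP.to_inf_left
  have h1 : Zc P ≤ H := m.le_max hV hV0 (psol hVp) hH (c.ip hZ hZp) (pcore_norm _ _)
    (cents_norm (centsS (center_cent P) hVP))
  have h2 : ∀ U₀ ≤ U, Iv G A U₀ → U₀ ≠ ⊥ → ∀ L, IP G A π L → L ≤ 𝐍(U₀) → L ≤ H := by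
    intro U₀ e hU₀ n L hL hn
    have h3 := m.join_norm hU₀ n (psol (hUq.to_le e)) hL
      (m.join_norm hU₀ n (psol (hUq.to_le e)) (c.ip hV hVp) (c.symm.ip hU hUq)
        (cents_norm (centsS hVU e)) (cents_norm (centsS hUU e))) hn
      (sup_le (cents_norm (centsS hVU e)) (cents_norm (centsS hUU e)))
    obtain ⟨L', e', hL'⟩ := Finite.exists_le_maximal h3
    rw [← c.uniq hH hL' hV hV0 le_rfl (pcore_norm _ _)
      (le_sup_left.trans (le_sup_right.trans e')) hU hU0 hUO hHU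
      (le_sup_right.trans (le_sup_right.trans e'))]
    exact le_sup_left.trans e'
  have h3 : ∀ S ≤ Zc P, Iv G A S → S ≠ ⊥ → U ⊓ 𝐂(S) = ⊥ := by
    intro S e hS n
    by_contra n'
    have hU₀ := hU.inf_cent hS.2
    obtain ⟨L, e', hL⟩ := Finite.exists_le_maximal (m.join_norm hS n (psol (hZp.to_le e)) c.ipP
      (c.symm.ip hU₀ hUq.to_inf_left) (cents_norm (centsS (le_cent_center P) e))
      (cents_norm inf_le_right))
    have hPL : P ≤ L := le_sup_left.trans e'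
    have h4 : U ⊓ 𝐂(S) ≤ O[{q}] L := (le_inf (inf_le_left.trans hUO) (le_sup_right.trans e')).trans
      (c.core_le hH hL.1 hV hV0 hVp (pcore_norm _ _) (hVP.trans hPL))
    have h5 : O[{q}] L ≠ ⊥ := fun h => n' (le_bot_iff.1 (h ▸ h4))
    by_cases h6 : O[{p}] L = ⊥
    · exact c.not_le hL.1 hPL (c.symm.le_of_core_eq_bot hL h6).1
    have hW := (hL.1.1.pcore {q}).zc
    have := c.uniq hL hH (hL.1.1.pcore _) h6 le_rfl (pcore_norm _ _)
      (h2 _ inf_le_left hU₀ n' _ (c.ip_core hL.1) (cents_norm (centsS (c.cent L) h4)))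
      hW (center_nil_ne_bot (pgroup_nil (pcore_isPGroup q L)) h5) (center_le _)
      ((center_charIn _).norm_trans (pcore_norm _ _))
      (h2 _ inf_le_left hU₀ n' _ (c.symm.ip hW (pcore_isPGroup q L).to_inf_left)
        (cents_norm (centsS (center_cent _) h4)))
    exact hPH (this ▸ hPL)
  obtain ⟨a, ha, ha1, h4⟩ := m.exists_cent1 hZ
    (center_nil_ne_bot (pgroup_nil c.hP.syl.isP) c.ne_bot)
  have hZa := m.iv_cent1 hZ ha
  have h5 := h3 _ inf_le_left hZa h4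
  have h6 : U ⊓ 𝐂[a] = ⊥ := le_bot_iff.1 (h5 ▸ le_inf inf_le_left (m.cent2 ha ha1 hU.1 hZ.1))
  have hco : ∀ D : Subgroup Γ, IsPGroup p D → (Nat.card D).Coprime (Nat.card U) := fun D hD =>
    cop_of_p' (isPi_compl_of_ne hD c.ne) hUq
  have h7 : ∀ b ∈ A, b ∉ zpowers a → P ⊓ 𝐂[b] ≤ 𝐂(U) := by
    intro b hb hba
    have hb1 := Mt.ne_one_of_ind hba
    have h8 : U ⊓ 𝐂[b] ≠ ⊥ := fun e => by
      have := m.frob hb hb1 ha (m.ind_symm ha ha1 hb hba) hZa inf_le_right hU (psol hUq)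
        (inf_le_left.trans (h1.trans hHU)) (hco _ hZp.to_inf_left) (e.le.trans bot_le)
      rw [inf_of_le_left (centsC.1 this)] at h5
      exact hU0 h5
    have hPb := m.iv_cent1 c.hP.iv hb
    have h9 := h2 _ inf_le_left (m.iv_cent1 hU hb) h8 _ (c.ip hPb c.hP.syl.isP.to_inf_left)
      (cents_norm (m.cent2 hb hb1 c.hP.syl.le hU.1))
    exact m.frob ha ha1 hb hba hPb inf_le_right hU (psol hUq) (h9.trans hHU)
      (hco _ c.hP.syl.isP.to_inf_left) (h6.le.trans bot_le)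
  have hz : zpowers a ≤ A := zpowers_le.2 ha
  have hzP : zpowers a ≤ 𝐍(P) := hz.trans c.hP.norm
  have hRP : ⁅P, zpowers a⁆ ≤ P := H2.commutator_le_of_le_normalizer hzP
  have hR : Iv G A ⁅P, zpowers a⁆ := ⟨hRP.trans c.hP.syl.le,
    H2.le_normalizer_commutator c.hP.norm (ea_le_normalizer m.elem hz)⟩
  have hcz := H2.coprime_of_le_left (m.coprime c.hP.syl.le) hz
  have hRR := H2.commutator_commutator_eq hzP hcz
  have hRn : ⁅P, zpowers a⁆ ⊴ P := ⟨hRP, normalizer_commutator_ge_left _ _⟩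
  by_cases hR0 : ⁅P, zpowers a⁆ = ⊥
  · refine m.nonsmall c.hP c.ne_bot ha ha1 ?_
    rw [← centralizer_zpowers]
    exact commutator_eq_bot_iff_le_centralizer.1 hR0
  generalize ⁅P, zpowers a⁆ = R at *
  have hRp := c.hP.syl.isP.to_le hRP
  have h8 : R ≤ Phi R ⊔ R ⊓ 𝐂(U) := by
    refine m.gen2 hR ha (le_trans ?_ le_sup_left) fun b hb hba => le_trans (le_inf inf_le_left
      ((inf_le_inf_right _ hRP).trans (h7 b hb hba))) le_sup_right
    rw [← centralizer_zpowers]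
    refine (H2.inf_centralizer_le_commutator (hz.trans hR.2)
      (H2.coprime_of_le_right hcz hRP) hRR.ge).trans ?_
    rw [← H45.map_subtype_commutator, Phi_def]
    exact map_mono (H1.commutator_le_frattini hRp)
  have h9 := Phi_nongen (le_antisymm (sup_le (Phi_le R) inf_le_left) h8)
  have h10 := h3 _ inf_le_right (hR.inf hZ.2) (meet_Zc_nil (pgroup_nil c.hP.syl.isP) hRn hR0)
  rw [inf_of_le_left (centsC.1 (inf_le_left.trans (h9.ge.trans inf_le_right)))] at h10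
  exact hU0 h10

theorem cases {H : Subgroup Γ} (hH : Maximal (IP G A π) H) : O[{q}] H = ⊥ ∨ O[{p}] H = ⊥ := by
  by_contra h
  push Not at h
  exact c.not_le hH.1 (c.le_of_cores hH h.2 h.1) (c.symm.le_of_cores hH h.1 h.2)

theorem norm_or {a : Γ} (ha : a ∈ A) (h1 : a ≠ 1) : Q ⊓ 𝐂[a] ≤ 𝐍(P) ∨ P ⊓ 𝐂[a] ≤ 𝐍(Q) := by
  have hP := c.ip (c.m.iv_cent1 c.hP.iv ha) c.hP.syl.isP.to_inf_left
  have hQ := c.symm.ip (c.m.iv_cent1 c.hQ.iv ha) c.hQ.syl.isP.to_inf_left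
  obtain ⟨H, e, hH⟩ := Finite.exists_le_maximal (p := IP G A π) ⟨hP.1.sup hQ.1,
    hP.2.sup_of_norm hQ.2 (cents_norm (c.m.cent2 ha h1 c.hQ.syl.le c.hP.syl.le))⟩
  rcases c.cases hH with h | h
  · exact Or.inl (le_sup_right.trans (e.trans (c.le_of_core_eq_bot hH h).2))
  · exact Or.inr (le_sup_left.trans (e.trans (c.symm.le_of_core_eq_bot hH h).2))

theorem faithful : Q ⊓ 𝐍(P) ⊓ 𝐂(P) = ⊥ := by
  have hX := c.symm.ip (c.hQ.iv.inf_norm c.hP.norm) c.hQ.syl.isP.to_inf_left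
  obtain ⟨H, e, hH⟩ := Finite.exists_le_maximal (p := IP G A π) ⟨c.hP.iv.sup hX.1,
    c.ipP.2.sup_of_norm hX.2 inf_le_right⟩
  rcases c.cases hH with h | h
  · have h1 := cent_pcore_le (q := p) (c.sol hH.1) (by rw [c.core_eq hH.1, h])
    have h2 : O[{p}] H ≤ P := c.hP.max _ (hH.1.1.pcore _) (pcore_isPGroup p H)
    rw [← le_bot_iff, ← inf_eq_bot_of_p' (isPi_compl_of_ne c.hQ.syl.isP c.ne.symm) c.hP.syl.isP]
    exact le_inf (inf_le_left.trans inf_le_left) ((le_inf (inf_le_left.trans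
      (le_sup_right.trans e)) (centsS inf_le_right h2)).trans (h1.trans h2))
  · exact (c.not_le hH.1 (le_sup_left.trans e) (c.symm.le_of_core_eq_bot hH h).1).elim

theorem false_of_norm {b : Γ} (hb : b ∈ A) (h1 : b ≠ 1) (h2 : Q ⊓ 𝐂[b] ≠ ⊥)
    (h3 : Q ⊓ 𝐂[b] ≤ 𝐍(P)) : False := by
  have h4 : Q ≤ 𝐍(P) := c.m.gen2 c.hQ.iv hb h3 fun a ha hab => by
    have ha1 := Mt.ne_one_of_ind hab
    refine (c.norm_or ha ha1).resolve_right fun h5 => h2 ?_
    have h6 := c.m.frob ha ha1 hb (c.m.ind_symm hb h1 ha hab) (c.m.iv_cent1 c.hQ.iv hb)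
      inf_le_right c.hP.iv (psol c.hP.syl.isP) h3
      (cop_of_p' (isPi_compl_of_ne c.hQ.syl.isP.to_inf_left c.ne.symm) c.hP.syl.isP) (by
        rw [← commutator_eq_bot_iff_le_centralizer, ← le_bot_iff,
          ← inf_eq_bot_of_p' (isPi_compl_of_ne c.hQ.syl.isP c.ne.symm) c.hP.syl.isP]
        exact le_inf
          ((commutator_mono le_rfl inf_le_left).trans (le_normalizer_iff_commutator_le_right.1 h5))
          ((commutator_mono inf_le_left le_rfl).trans (H2.commutator_le_of_le_normalizer h3)))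
    rw [← le_bot_iff, ← c.faithful]
    exact le_inf (le_inf inf_le_left h3) h6
  exact c.hn (c.ipP.2.sup_of_norm c.symm.ipP.2 h4)

theorem false_of_odd (h2 : p ≠ 2) : False := by
  obtain ⟨a, ha, ha1, h3⟩ := c.m.big h2 c.hP c.ne_bot
  refine c.m.nonsmall c.hQ c.symm.ne_bot ha ha1 (c.m.gen2 c.hQ.iv ha inf_le_right
    fun b hb hba => ?_)
  by_contra h4
  have h5 : Q ⊓ 𝐂[b] ≠ ⊥ := fun e => h4 (e ▸ bot_le)
  have hb1 := Mt.ne_one_of_ind hba
  rcases c.norm_or hb hb1 with h | h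
  · exact c.false_of_norm hb hb1 h5 h
  · exact c.symm.false_of_norm hb hb1 (h3 b hb hba) h

theorem false : False := by
  by_cases h : p = 2
  · exact c.symm.false_of_odd fun e => c.ne (h.trans e.symm)
  · exact c.false_of_odd h

end Pr

theorem Mt.false (m : Mt r G A) : False := by
  classical
  have h1 : ∀ p : ℕ, ∃ P, p.Prime → ISyl G A p P := fun p => by
    by_cases hp : p.Prime
    · have : Fact p.Prime := ⟨hp⟩
      obtain ⟨P, hP⟩ := m.exists_isyl p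
      exact ⟨P, fun _ => hP⟩
    · exact ⟨⊥, fun h => (hp h).elim⟩
  choose S hS using h1
  have h2 : ∀ p q, p.Prime → q.Prime → p ≠ q → H22.Permutes (S p) (S q) := by
    intro p q hp hq hne
    have : Fact p.Prime := ⟨hp⟩
    have : Fact q.Prime := ⟨hq⟩
    have h3 : IsPi {p, q} (S p ⊔ S q) := by
      by_contra h
      exact Pr.false ⟨m, hne, fun s => by simp, hS p hp, hS q hq, h⟩
    have h4 := sup_le (hS p hp).syl.le (hS q hq).syl.le
    have h5 := ((hS p hp).syl.hall hp).subl le_sup_left h4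
    have h6 : Hall {p}ᶜ (S q) (S p ⊔ S q) := (((hS q hq).syl.hall hq).subl le_sup_right h4).congr
      fun s hs => by
        rcases h3.mem_of_mem_primesOf hs with rfl | rfl
        · simp [hne]
        · simp [hne.symm]
    exact fun g hg => (h5.mulEq h6).exists_mul hg
  have h3 : ∀ σ : Finset ℕ, (∀ p ∈ σ, p.Prime) → Hall σ (sSup (S '' σ)) G := by
    intro σ
    induction σ using Finset.induction_on with
    | empty =>
      intro _
      simp only [Finset.coe_empty, Set.image_empty, sSup_empty]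
      exact hall_bot_iff.2 fun p _ _ => by simp
    | insert t σ ht ih =>
      intro h
      have ht' := h t (Finset.mem_insert_self t σ)
      have h' : ∀ p ∈ σ, p.Prime := fun p hp => h p (Finset.mem_insert_of_mem hp)
      rw [Finset.coe_insert, Set.image_insert_eq, sSup_insert, Set.insert_eq]
      refine ((hS t ht').syl.hall ht').union (ih h') (mulEq_iff_coe.2 (H22.Permutes.coe_sup
        (H22.Permutes.symm (H22.Permutes.sSup_left ?_))).symm)
      rintro _ ⟨p, hp, rfl⟩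
      exact h2 p t (h' p hp) ht' fun e => ht (e ▸ hp)
  refine m.nsol (Cfsg.Agent.S0006.main _ rfl fun p hp => ?_)
  have h4 : Hall {p}ᶜ _ G := (h3 ((Nat.card G).primeFactors.erase p) fun s hs =>
    Nat.prime_of_mem_primeFactors (Finset.mem_of_mem_erase hs)).congr fun s hs => by
      have : s ∈ (Nat.card G).primeFactors := Nat.mem_primeFactors.2 ⟨hs.1, hs.2, Nat.card_pos.ne'⟩
      simp [this]
  obtain ⟨h5, h6⟩ := (H3.isPiHall_compl_singleton_iff hp).1 ((hall_iff_subgroupOf h4.le).1 h4)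
  exact ⟨_, h6, (Nat.Prime.coprime_iff_not_dvd hp).1 h5.symm⟩

theorem solvable_of_abelian_cent (n : ℕ) : ∀ {Γ : Type u} [Group Γ] [Finite Γ] {G A : Subgroup Γ},
    Nat.card G = n → IsElementaryAbelian r A → Nat.card A = r ^ 2 → A ≤ 𝐍(G) →
    ¬ r ∣ Nat.card G → (∀ a ∈ A, a ≠ 1 → IsMulCommutative ↥(G ⊓ 𝐂[a])) →
    Group.IsSolvable G := by
  induction n using Nat.strong_induction_on with
  | _ n ih =>
  intro Γ _ _ G A hn hA hc hN hr' hab
  by_contra hs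
  have h1 : ∀ K, K < G → A ≤ 𝐍(K) → Group.IsSolvable K := fun K hK hAK =>
    ih _ (hn ▸ H1.card_lt_of_lt hK) rfl hA hc hAK (not_dvd_of_le hK.le hr')
      fun a ha h1 => abelianS (hab a ha h1) (inf_le_inf_right _ hK.le)
  refine Mt.false ⟨hA, hc, hN, hr', hab, hs, h1, fun K hK h0 hAK hGK => ?_⟩
  by_contra hne
  have hKs := h1 K (lt_of_le_of_ne hK hne) hAK
  refine hs (isSolvable_of_quotient hGK (solvableS hKs inf_le_right) ?_)
  have hco : (Nat.card K).Coprime (Nat.card A) := (ea_coprime hA (not_dvd_of_le hK hr')).symm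
  refine ih _ ?_ rfl (quotient_abelem K hA) ?_ (quotient_norms K hN)
    (fun h => hr' (h.trans (dvdn_quotient K G))) ?_
  · rw [← hn, ← card_quotient_mul ⟨hK, hGK⟩]
    exact lt_mul_of_one_lt_left Nat.card_pos ((one_lt_card_iff_ne_bot K).2 h0)
  · rw [card_quotient_TI hAK (coprime_TIg hco), hc]
  · intro y hy h1
    obtain ⟨a, ha, haK, rfl⟩ := mem_quo.1 hy
    have ha1 : a ≠ 1 := by rintro rfl; exact h1 (ap_one _)
    have hz : zpowers a ≤ A := zpowers_le.2 ha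
    rw [← centralizer_zpowers, ← quotient_cycle haK, ← BG.coprime_norm_quotient_cent (hz.trans hN)
      (hz.trans hAK) ⟨hK, hGK⟩ (H2.coprime_of_le_left hco.symm hz).symm (Or.inl hKs),
      centralizer_zpowers]
    exact quotient_abelian K (hab a ha ha1)

end H43
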